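import Mathlib

/-! Gluing invertible modules along a fibre square of quotient rings. -/

set_option autoImplicit false

universe u

open TensorProduct

namespace Groth.Agent.PicGlue84

section pairing

variable {R : Type u} [CommRing R] {P P' : Type u} [AddCommGroup P] [Module R P] [AddCommGroup P'] [Module R P']

/-- A symmetric pairing with unit in its image exhibits invertibility. -/
theorem invertible_of_pairing (β : P →ₗ[R] P' →ₗ[R] R)
    (h1 : (1 : R) ∈ Submodule.span R (Set.range fun x : P × P' => β x.1 x.2))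
    (hs : ∀ p p₁ q, β p q • p₁ = β p₁ q • p) (hs' : ∀ p q q₁, β p q • q₁ = β p q₁ • q) :
    Module.Invertible R P := by
  obtain ⟨w, hw⟩ : ∃ w : P ⊗[R] P', TensorProduct.lift β w = 1 := by
    suffices h : Submodule.span R (Set.range fun x : P × P' => β x.1 x.2) ≤
        LinearMap.range (TensorProduct.lift β) from h h1
    rw [Submodule.span_le]
    rintro _ ⟨⟨p, q⟩, rfl⟩
    exact ⟨p ⊗ₜ q, TensorProduct.lift.tmul _ _⟩
  have key : ∀ v z : P ⊗[R] P', TensorProduct.lift β v • z = TensorProduct.lift β z • v := by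
    intro v z
    induction v using TensorProduct.induction_on with
    | zero => simp
    | add a b ha hb => rw [map_add, add_smul, ha, hb, smul_add]
    | tmul p q =>
      induction z using TensorProduct.induction_on with
      | zero => simp
      | add a b ha hb => rw [map_add, add_smul, smul_add, ha, hb]
      | tmul x y =>
        rw [TensorProduct.lift.tmul, TensorProduct.lift.tmul, smul_tmul', hs, ← smul_tmul', ← tmul_smul, hs',
          tmul_smul]
  refine Module.Invertible.left (LinearEquiv.ofBijective (TensorProduct.lift β) ⟨?_, ?_⟩)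
  · rw [← LinearMap.ker_eq_bot, LinearMap.ker_eq_bot']
    intro z hz
    have := key w z
    rwa [hw, one_smul, hz, zero_smul] at this
  · exact fun r => ⟨r • w, by rw [map_smul, hw, smul_eq_mul, mul_one]⟩

end pairing

theorem dual_symm_left {R : Type u} [CommRing R] {M : Type u} [AddCommGroup M] [Module R M]
    [Module.Invertible R M] (m m₁ : M) (n : Module.Dual R M) : n m • m₁ = n m₁ • m := by
  let L : M ⊗[R] M →ₗ[R] M :=
    TensorProduct.lift (LinearMap.mk₂ R (fun a b => n a • b) (by intros; simp [add_smul])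
      (by intros; simp [mul_smul]) (by intros; simp) (fun c a b => smul_comm (n a) c b))
  have := congrArg L (Module.Invertible.tmul_comm (R := R) (m₁ := m) (m₂ := m₁))
  simpa [L] using this

theorem dual_symm_right {R : Type u} [CommRing R] {M : Type u} [AddCommGroup M] [Module R M]
    [Module.Invertible R M] (m : M) (n n₁ : Module.Dual R M) : n m • n₁ = n₁ m • n := by
  refine LinearMap.ext fun x => ?_
  simp only [LinearMap.smul_apply, smul_eq_mul]
  have h := congrArg n₁ (dual_symm_left m x n)
  simpa [mul_comm] using h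

theorem one_mem_span_pairing {R : Type u} [CommRing R] {M : Type u} [AddCommGroup M] [Module R M]
    [Module.Invertible R M] :
    (1 : R) ∈ Submodule.span R (Set.range fun x : M × Module.Dual R M => x.2 x.1) := by
  obtain ⟨z, hz⟩ := (Module.Invertible.linearEquiv R M).surjective 1
  rw [← hz]
  clear hz
  induction z using TensorProduct.induction_on with
  | zero => simp
  | add a b ha hb => rw [map_add]; exact add_mem ha hb
  | tmul n m =>
    refine Submodule.subset_span ⟨(m, n), ?_⟩
    simp [Module.Invertible.linearEquiv]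

section glue

variable {R R' : Type u} [CommRing R] [CommRing R'] [Algebra R R'] (J : Ideal R)

local notation "c'" => Ideal.map (algebraMap R R') J

/-- The map to the common quotient. -/
noncomputable def qm : (R ⧸ J) →ₗ[R] R' ⧸ c' where
  toFun := Ideal.quotientMap c' (algebraMap R R') Ideal.le_comap_map
  map_add' := map_add _
  map_smul' r a := by
    obtain ⟨a, rfl⟩ := Ideal.Quotient.mk_surjective a
    simp only [RingHom.id_apply]
    rw [Algebra.smul_def, Algebra.smul_def, map_mul]
    rfl

theorem qm_mk (r : R) : qm (R' := R') J (Ideal.Quotient.mk J r) = Ideal.Quotient.mk c' (algebraMap R R' r) := rfl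

theorem qm_surjective (hsurj : Function.Surjective (algebraMap R R')) :
    Function.Surjective (qm (R' := R') J) := fun y => by
  obtain ⟨y, rfl⟩ := Ideal.Quotient.mk_surjective y
  obtain ⟨r, rfl⟩ := hsurj y
  exact ⟨Ideal.Quotient.mk J r, qm_mk J r⟩

theorem exists_glue (hsurj : Function.Surjective (algebraMap R R')) (v : R') (w : R ⧸ J)
    (h : Ideal.Quotient.mk c' v = qm J w) :
    ∃ r : R, algebraMap R R' r = v ∧ Ideal.Quotient.mk J r = w := by
  obtain ⟨r1, rfl⟩ := hsurj v
  obtain ⟨r2, rfl⟩ := Ideal.Quotient.mk_surjective w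
  rw [qm_mk, Ideal.Quotient.eq, ← map_sub] at h
  obtain ⟨j, hj, hje⟩ := (Ideal.mem_map_iff_of_surjective _ hsurj).1 h
  exact ⟨r2 + j, by rw [map_add, hje, map_sub]; ring,
    by rw [map_add, Ideal.Quotient.eq_zero_iff_mem.2 hj, add_zero]⟩

theorem glue_unique (hbot : RingHom.ker (algebraMap R R') ⊓ J = ⊥) {r r' : R}
    (h1 : algebraMap R R' r = algebraMap R R' r') (h2 : Ideal.Quotient.mk J r = Ideal.Quotient.mk J r') :
    r = r' := by
  have : r - r' ∈ RingHom.ker (algebraMap R R') ⊓ J :=
    ⟨by rw [SetLike.mem_coe, RingHom.mem_ker, map_sub, h1, sub_self], Ideal.Quotient.eq.1 h2⟩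
  rw [hbot, Ideal.mem_bot, sub_eq_zero] at this
  exact this

variable (M : Type u) [AddCommGroup M] [Module R M] [Module R' M] [IsScalarTower R R' M]

/-- Pairs compatible over the common quotient. -/
noncomputable def glue (l : M →ₗ[R'] R' ⧸ c') : Submodule R (M × (R ⧸ J)) :=
  LinearMap.eqLocus (l.restrictScalars R ∘ₗ LinearMap.fst R M (R ⧸ J)) (qm J ∘ₗ LinearMap.snd R M (R ⧸ J))

theorem mem_glue {l : M →ₗ[R'] R' ⧸ c'} {x : M × (R ⧸ J)} : x ∈ glue J M l ↔ l x.1 = qm J x.2 := Iff.rfl

theorem exists_invertible_glue (hsurj : Function.Surjective (algebraMap R R'))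
    (hbot : RingHom.ker (algebraMap R R') ⊓ J = ⊥) [Finite (MaximalSpectrum (R' ⧸ c'))]
    [Module.Invertible R' M] :
    ∃ (P : Type u) (_ : AddCommGroup P) (_ : Module R P), Module.Invertible R P ∧
      Nonempty ((R' ⊗[R] P) ≃ₗ[R'] M) := by
  classical
  obtain ⟨e⟩ := (Module.Invertible.free_iff_linearEquiv (R := R' ⧸ c') (M := (R' ⧸ c') ⊗[R'] M)).1 inferInstance
  let l : M →ₗ[R'] R' ⧸ c' :=
    e.toLinearMap.restrictScalars R' ∘ₗ TensorProduct.mk R' (R' ⧸ c') M 1
  obtain ⟨m0, hm0'⟩ := TensorProduct.mk_surjective R' M (R' ⧸ c') Ideal.Quotient.mk_surjective (e.symm 1)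
  have hm0 : l m0 = 1 := by
    show e ((1 : R' ⧸ c') ⊗ₜ[R'] m0) = 1
    rw [show (1 : R' ⧸ c') ⊗ₜ[R'] m0 = e.symm 1 from hm0', e.apply_symm_apply]
  let μ : Module.Dual R' M →ₗ[R'] R' ⧸ c' := Algebra.linearMap R' (R' ⧸ c') ∘ₗ LinearMap.applyₗ m0
  have hcomp : ∀ (m : M) (n : Module.Dual R' M), Ideal.Quotient.mk c' (n m) = l m * μ n := by
    intro m n
    obtain ⟨r, hr⟩ := Ideal.Quotient.mk_surjective (l m)
    have h1 : (1 : R' ⧸ c') ⊗ₜ[R'] m = (1 : R' ⧸ c') ⊗ₜ[R'] (r • m0) := by
      apply e.injective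
      show l m = l (r • m0)
      rw [map_smul, hm0, ← hr, Algebra.smul_def, mul_one]
      rfl
    have h2 := congrArg (fun z => TensorProduct.AlgebraTensorModule.rid R' (R' ⧸ c') (R' ⧸ c')
      (LinearMap.baseChange (R' ⧸ c') n z)) h1
    simp only [LinearMap.baseChange_tmul, TensorProduct.AlgebraTensorModule.rid_tmul, map_smul,
      Algebra.smul_def, mul_one, map_mul] at h2
    rw [← hr]
    exact h2
  let P := glue J M l
  let P' := glue J (Module.Dual R' M) μ
  have hex : ∀ (x : P) (y : P'), ∃ r : R,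
      algebraMap R R' r = (y.1.1) x.1.1 ∧ Ideal.Quotient.mk J r = x.1.2 * y.1.2 := by
    intro x y
    refine exists_glue J hsurj _ _ ?_
    rw [hcomp, show l x.1.1 = qm J x.1.2 from x.2, show μ y.1.1 = qm J y.1.2 from y.2]
    exact (map_mul (Ideal.quotientMap c' (algebraMap R R') Ideal.le_comap_map) _ _).symm
  choose b hb1 hb2 using hex
  let β : P →ₗ[R] P' →ₗ[R] R := LinearMap.mk₂ R b
    (fun x x' y => glue_unique J hbot (by rw [map_add, hb1, hb1, hb1]; exact map_add y.1.1 x.1.1 x'.1.1)
      (by rw [map_add, hb2, hb2, hb2]; exact add_mul x.1.2 x'.1.2 y.1.2))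
    (fun c x y => glue_unique J hbot
      (by
        rw [smul_eq_mul, map_mul, hb1, hb1]
        show y.1.1 (c • x.1.1) = _
        rw [← algebraMap_smul R' c x.1.1, map_smul, smul_eq_mul])
      (by
        rw [smul_eq_mul, map_mul, hb2, hb2]
        show (c • x.1.2) * y.1.2 = _
        rw [Algebra.smul_def, mul_assoc]
        rfl))
    (fun x y y' => glue_unique J hbot (by rw [map_add, hb1, hb1, hb1]; rfl)
      (by rw [map_add, hb2, hb2, hb2]; exact mul_add x.1.2 y.1.2 y'.1.2))
    (fun c x y => glue_unique J hbot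
      (by
        rw [smul_eq_mul, map_mul, hb1, hb1]
        show (c • y.1.1) x.1.1 = _
        rw [LinearMap.smul_apply, Algebra.smul_def])
      (by
        rw [smul_eq_mul, map_mul, hb2, hb2]
        show x.1.2 * (c • y.1.2) = _
        rw [Algebra.smul_def, mul_left_comm]
        rfl))
  have hβ1 : ∀ x y, algebraMap R R' (β x y) = y.1.1 x.1.1 := hb1
  have hβ2 : ∀ x y, Ideal.Quotient.mk J (β x y) = x.1.2 * y.1.2 := hb2
  have hfst : ∀ m : M, ∃ a, l m = qm J a := fun m => by
    obtain ⟨a, ha⟩ := qm_surjective J hsurj (l m); exact ⟨a, ha.symm⟩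
  have hfst' : ∀ n : Module.Dual R' M, ∃ a, μ n = qm J a := fun n => by
    obtain ⟨a, ha⟩ := qm_surjective J hsurj (μ n); exact ⟨a, ha.symm⟩
  have hinv : Module.Invertible R P := by
    refine invertible_of_pairing (P := ↥P) (P' := ↥P') β ?_ ?_ ?_
    · set S := Submodule.span R (Set.range fun x : P × P' => β x.1 x.2)
      obtain ⟨n0, hn0⟩ : ∃ n0, μ n0 = 1 := by
        have h1 := one_mem_span_pairing (R := R') (M := M)
        have hle : Submodule.span R' (Set.range fun x : M × Module.Dual R' M => x.2 x.1) ≤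
            (LinearMap.range μ).comap (Algebra.linearMap R' (R' ⧸ c')) := by
          rw [Submodule.span_le]
          rintro _ ⟨⟨m, n⟩, rfl⟩
          obtain ⟨r, hr⟩ := Ideal.Quotient.mk_surjective (l m)
          refine ⟨r • n, ?_⟩
          rw [map_smul, Algebra.smul_def]
          show Ideal.Quotient.mk c' r * μ n = Ideal.Quotient.mk c' (n m)
          rw [hr, hcomp]
        obtain ⟨n0, hn0⟩ := hle h1
        exact ⟨n0, hn0.trans (by rw [Algebra.linearMap_apply, map_one])⟩
      have hone : ∀ {X : Type u}, qm (R' := R') J 1 = 1 := fun {X} => by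
        rw [← map_one (Ideal.Quotient.mk J), qm_mk, map_one, map_one]
      let x0 : P := ⟨(m0, 1), (mem_glue J M).2 (by rw [hm0, hone (X := PUnit)])⟩
      let y0 : P' := ⟨(n0, 1), (mem_glue J (Module.Dual R' M)).2 (by rw [hn0, hone (X := PUnit)])⟩
      have hz : ∀ j ∈ J, ∀ (m : M) (n : Module.Dual R' M), ∃ r ∈ S,
          algebraMap R R' r = algebraMap R R' j * n m ∧ Ideal.Quotient.mk J r = 0 := by
        intro j hj m n
        obtain ⟨bn, hbn⟩ := hfst' n
        let x : P := ⟨(j • m, 0), (mem_glue J M).2 (by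
          rw [map_zero, ← algebraMap_smul R' j m, map_smul, Algebra.smul_def,
            Ideal.Quotient.algebraMap_eq, Ideal.Quotient.eq_zero_iff_mem.2 (Ideal.mem_map_of_mem _ hj), zero_mul])⟩
        let y : P' := ⟨(n, bn), (mem_glue J (Module.Dual R' M)).2 hbn⟩
        refine ⟨β x y, Submodule.subset_span ⟨(x, y), rfl⟩, ?_, ?_⟩
        · rw [hβ1]
          show n (j • m) = _
          rw [← algebraMap_smul R' j m, map_smul, smul_eq_mul]
        · rw [hβ2]; exact zero_mul _
      let T : Submodule R' R' :=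
        { carrier := {v | ∀ j ∈ J, ∃ r ∈ S, algebraMap R R' r = algebraMap R R' j * v ∧ Ideal.Quotient.mk J r = 0}
          zero_mem' := fun j _ => ⟨0, S.zero_mem, by simp, by simp⟩
          add_mem' := fun {v w} hv hw j hj => by
            obtain ⟨r, hr, h1, h2⟩ := hv j hj
            obtain ⟨r', hr', h1', h2'⟩ := hw j hj
            exact ⟨r + r', S.add_mem hr hr', by rw [map_add, h1, h1', mul_add], by rw [map_add, h2, h2', add_zero]⟩
          smul_mem' := fun c v hv j hj => by
            obtain ⟨t, rfl⟩ := hsurj c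
            obtain ⟨r, hr, h1, h2⟩ := hv j hj
            exact ⟨t • r, S.smul_mem t hr, by rw [smul_eq_mul, map_mul, h1, smul_eq_mul]; ring,
              by rw [smul_eq_mul, map_mul, h2, mul_zero]⟩ }
      have hT1 : (1 : R') ∈ T := by
        refine (Submodule.span_le.2 ?_) (one_mem_span_pairing (R := R') (M := M))
        rintro _ ⟨⟨m, n⟩, rfl⟩ j hj
        exact hz j hj m n
      have hj : 1 - β x0 y0 ∈ J := by
        rw [← Ideal.Quotient.eq_zero_iff_mem, map_sub, map_one, hβ2]
        exact sub_eq_zero.2 (one_mul _).symm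
      obtain ⟨r, hr, h1, h2⟩ := hT1 _ hj
      have hr' : r = 1 - β x0 y0 := glue_unique J hbot (by rw [h1, mul_one])
        (by rw [h2, Ideal.Quotient.eq_zero_iff_mem.2 hj])
      have : (1 : R) = β x0 y0 + r := by rw [hr']; ring
      rw [this]
      exact S.add_mem (Submodule.subset_span ⟨(x0, y0), rfl⟩) hr
    · intro p p₁ q
      refine Subtype.ext (Prod.ext ?_ ?_)
      · show β p q • p₁.1.1 = β p₁ q • p.1.1
        rw [← algebraMap_smul R' (β p q), ← algebraMap_smul R' (β p₁ q), hβ1, hβ1]
        exact dual_symm_left _ _ _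
      · show β p q • p₁.1.2 = β p₁ q • p.1.2
        rw [Algebra.smul_def, Algebra.smul_def, Ideal.Quotient.algebraMap_eq, hβ2, hβ2]
        ring
    · intro p q q₁
      refine Subtype.ext (Prod.ext ?_ ?_)
      · show β p q • q₁.1.1 = β p q₁ • q.1.1
        rw [← algebraMap_smul R' (β p q), ← algebraMap_smul R' (β p q₁), hβ1, hβ1]
        exact dual_symm_right _ _ _
      · show β p q • q₁.1.2 = β p q₁ • q.1.2
        rw [Algebra.smul_def, Algebra.smul_def, Ideal.Quotient.algebraMap_eq, hβ2, hβ2]
        ring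
  refine ⟨P, inferInstance, inferInstance, hinv, ?_⟩
  let pr : P →ₗ[R] M := LinearMap.fst R M (R ⧸ J) ∘ₗ P.subtype
  let F : R' ⊗[R] P →ₗ[R'] M := pr.liftBaseChange R'
  have hF : Function.Surjective F := fun m => by
    obtain ⟨a, ha⟩ := hfst m
    refine ⟨1 ⊗ₜ ⟨(m, a), (mem_glue J M).2 ha⟩, ?_⟩
    rw [LinearMap.liftBaseChange_tmul, one_smul]
    rfl
  exact ⟨LinearEquiv.ofBijective F (Module.Invertible.bijective_of_surjective hF)⟩

end glue

/-- Surjectivity on Picard groups. -/
theorem pic_surjective {R R' : Type u} [CommRing R] [CommRing R'] (f : R →+* R') (hf : Function.Surjective f)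
    (J : Ideal R) (hbot : RingHom.ker f ⊓ J = ⊥) (hfin : Finite (MaximalSpectrum (R' ⧸ J.map f))) :
    Function.Surjective (CommRing.Pic.mapRingHom f) := by
  intro L
  algebraize [f]
  let : Module R L := Module.compHom _ f
  have : IsScalarTower R R' L := ⟨fun r c m => by
    show (f r * c) • m = f r • c • m
    exact mul_smul _ _ _⟩
  have : Finite (MaximalSpectrum (R' ⧸ Ideal.map (algebraMap R R') J)) := hfin
  obtain ⟨P, _, _, hP, ⟨e⟩⟩ := exists_invertible_glue (R := R) (R' := R') J L hf hbot
  refine ⟨CommRing.Pic.mk R P, ?_⟩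
  rw [show CommRing.Pic.mapRingHom f = CommRing.Pic.mapAlgebra R R' from
    CommRing.Pic.mapRingHom_algebraMap (R := R) (A := R'), CommRing.Pic.ext_iff]
  refine ⟨?_⟩
  exact (CommRing.Pic.mk.linearEquiv R' (R' ⊗[R] (CommRing.Pic.mk R P))) ≪≫ₗ
    (TensorProduct.AlgebraTensorModule.congr (LinearEquiv.refl R' R') (CommRing.Pic.mk.linearEquiv R P)) ≪≫ₗ e

end Groth.Agent.PicGlue84
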