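import Mathlib

/-! A finitely generated integral torsion ring is finite. -/

set_option autoImplicit false

universe u

open MvPolynomial

namespace Groth.Agent.PicGlue84

theorem finite_maximalSpectrum_of_integral {σ : Type} [Finite σ] {T : Type u} [CommRing T]
    (τ : MvPolynomial σ ℤ →+* T) (hτ : Function.Surjective τ)
    (P : Polynomial ℤ) (hP : P.Monic) (hroot : ∀ k, τ (Polynomial.aeval (X k) P) = 0)
    (N : ℤ) (hN0 : N ≠ 0) (hN : τ (C N) = 0) : Finite (MaximalSpectrum T) := by
  let τ' : MvPolynomial σ ℤ →ₐ[ℤ] T := τ.toIntAlgHom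
  have hint : ∀ k, IsIntegral ℤ (τ' (X k)) := fun k =>
    ⟨P, hP, by rw [← Polynomial.aeval_def, Polynomial.aeval_algHom_apply]; exact hroot k⟩
  have h1 : Algebra.IsIntegral ℤ T := ⟨fun x => by
    obtain ⟨g, rfl⟩ := hτ x
    change IsIntegral ℤ (τ' g)
    induction g using MvPolynomial.induction_on with
    | C a => exact (τ'.commutes a).symm ▸ isIntegral_algebraMap
    | add a b ha hb => rw [map_add]; exact ha.add hb
    | mul_X a k ha => rw [map_mul]; exact ha.mul (hint k)⟩
  have h2 : Algebra.FiniteType ℤ T := Algebra.FiniteType.of_surjective τ' hτ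
  have h3 : Module.Finite ℤ T := Algebra.IsIntegral.finite
  have : Finite T := Module.finite_of_fg_torsion T fun x =>
    ⟨⟨N, mem_nonZeroDivisors_of_ne_zero hN0⟩, by
      show N • x = 0
      rw [zsmul_eq_mul, show ((N : ℤ) : T) = τ (C N) by simp, hN, zero_mul]⟩
  exact Finite.of_injective (fun m : MaximalSpectrum T => (m.asIdeal : Set T))
    fun a b hab => MaximalSpectrum.ext (SetLike.coe_injective hab)

end Groth.Agent.PicGlue84
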